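-- Sylow subgroups, maximal subgroups, conjugates. helper64.
import Mathlib

set_option autoImplicit false

namespace Cfsg.Agent.Lib.Helper64

section

variable {G : Type*} [Group G]

/-- the relative index in a normal subgroup divides the index -/
theorem relIndex_dvd_index_of_normal_right [Finite G] (A N : Subgroup G) [N.Normal] :
    A.relIndex N ∣ A.index := by
  have e1 := Subgroup.relIndex_mul_relIndex (A ⊓ N) A (A ⊔ N) inf_le_left le_sup_left
  have e2 := Subgroup.relIndex_mul_relIndex (A ⊓ N) N (A ⊔ N) inf_le_right le_sup_right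
  have e3 : N.relIndex (A ⊔ N) = (A ⊓ N).relIndex A := by
    rw [Subgroup.relIndex_sup_right, Subgroup.inf_relIndex_left]
  have e4 : (A ⊓ N).relIndex N = A.relIndex N := Subgroup.inf_relIndex_right A N
  have e5 : (A ⊓ N).relIndex A ≠ 0 := by
    show ((A ⊓ N).subgroupOf A).index ≠ 0
    exact Subgroup.index_ne_zero_of_finite
  have e6 : A.relIndex (A ⊔ N) = A.relIndex N := by
    rw [← e4]
    have : (A ⊓ N).relIndex A * A.relIndex (A ⊔ N)
        = (A ⊓ N).relIndex A * (A ⊓ N).relIndex N := by
      rw [e1, ← e2, e3, mul_comm]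
    exact Nat.eq_of_mul_eq_mul_left (Nat.pos_of_ne_zero e5) this
  rw [← e6]
  exact Subgroup.relIndex_dvd_index_of_le le_sup_left

/-- membership in a conjugate subgroup -/
theorem mem_map_conj {M : Subgroup G} {g x : G} :
    x ∈ M.map (MulAut.conj g).toMonoidHom ↔ g⁻¹ * x * g ∈ M := by
  constructor
  · rintro ⟨m, hm, rfl⟩
    simpa [mul_assoc] using hm
  · intro h
    exact ⟨g⁻¹ * x * g, h, by simp [mul_assoc]⟩

/-- conjugating twice -/
theorem map_conj_map_conj (M : Subgroup G) (a b : G) :
    (M.map (MulAut.conj b).toMonoidHom).map (MulAut.conj a).toMonoidHom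
      = M.map (MulAut.conj (a * b)).toMonoidHom := by
  ext x
  simp only [mem_map_conj]
  constructor
  · intro h
    have e : (a * b)⁻¹ * x * (a * b) = b⁻¹ * (a⁻¹ * x * a) * b := by group
    rw [e]; exact h
  · intro h
    have e : (a * b)⁻¹ * x * (a * b) = b⁻¹ * (a⁻¹ * x * a) * b := by group
    rw [← e]; exact h

/-- conjugating by an element of the subgroup -/
theorem map_conj_of_mem (M : Subgroup G) {g : G} (hg : g ∈ M) :
    M.map (MulAut.conj g).toMonoidHom = M := by
  ext x
  rw [mem_map_conj]
  constructor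
  · intro h
    have e : x = g * (g⁻¹ * x * g) * g⁻¹ := by group
    rw [e]
    exact M.mul_mem (M.mul_mem hg h) (M.inv_mem hg)
  · intro h
    exact M.mul_mem (M.mul_mem (M.inv_mem hg) h) hg

/-- a conjugate of a maximal subgroup is maximal -/
theorem isCoatom_map_conj {M : Subgroup G} (hM : IsCoatom M) (g : G) :
    IsCoatom (M.map (MulAut.conj g).toMonoidHom) := by
  have := (OrderIso.isCoatom_iff (MulEquiv.mapSubgroup (MulAut.conj g)) M).2 hM
  simpa using this

/-- the index of a conjugate -/
theorem index_map_conj (M : Subgroup G) (g : G) :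
    (M.map (MulAut.conj g).toMonoidHom).index = M.index :=
  Subgroup.index_map_equiv M (MulAut.conj g)

/-- a `p`-subgroup lies in a conjugate of any subgroup of index prime to `p` -/
theorem exists_le_map_conj_of_not_dvd_index [Finite G] {p : ℕ} [Fact p.Prime] {R M : Subgroup G}
    (hR : IsPGroup p R) (hM : ¬ p ∣ M.index) :
    ∃ g : G, R ≤ M.map (MulAut.conj g).toMonoidHom := by
  have hnd : ¬ p ∣ Nat.card (G ⧸ M) := by rwa [← Subgroup.index_eq_card]
  obtain ⟨q, hq⟩ := hR.nonempty_fixed_point_of_prime_not_dvd_card (G ⧸ M) hnd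
  obtain ⟨c, rfl⟩ := QuotientGroup.mk_surjective q
  refine ⟨c, ?_⟩
  intro x hx
  rw [mem_map_conj]
  have hfix := hq ⟨x, hx⟩
  have h1 : (QuotientGroup.mk (x * c) : G ⧸ M) = QuotientGroup.mk c := hfix
  rw [QuotientGroup.eq] at h1
  have := M.inv_mem h1
  simpa [mul_assoc] using this

/-- a nontrivial `p`-subgroup of a normal nonabelian simple subgroup is not normal -/
theorem normalizer_ne_top_of_le_simple [Finite G] {p : ℕ} [Fact p.Prime] (T : Subgroup G)
    [T.Normal] (hT : IsSimpleGroup T) (hna : ¬ IsMulCommutative T) {D : Subgroup G}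
    (hD : IsPGroup p D) (hDT : D ≤ T) (hD1 : D ≠ ⊥) :
    Subgroup.normalizer (D : Set G) ≠ ⊤ := by
  intro htop
  have hDn : D.Normal := Subgroup.normalizer_eq_top_iff.1 htop
  have hn : (D.subgroupOf T).Normal := hDn.subgroupOf T
  rcases hn.eq_bot_or_eq_top with h | h
  · rw [Subgroup.subgroupOf_eq_bot] at h
    exact hD1 (by
      have := h.eq_bot
      rwa [inf_of_le_left hDT] at this)
  · rw [Subgroup.subgroupOf_eq_top] at h
    have hTp : IsPGroup p T := hD.to_le h
    have hnil : Group.IsNilpotent T := hTp.isNilpotent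
    have hsol : Group.IsSolvable T := inferInstance
    exact hna (isMulCommutative_iff.2 (IsSimpleGroup.comm_iff_isSolvable.2 hsol))

/-- a proper subgroup of a finite group lies in a maximal subgroup -/
theorem exists_coatom_ge [Finite G] {H : Subgroup G} (hH : H ≠ ⊤) :
    ∃ M : Subgroup G, IsCoatom M ∧ H ≤ M := by
  rcases eq_top_or_exists_le_coatom H with h | h
  · exact absurd h hH
  · exact h

end

end Cfsg.Agent.Lib.Helper64
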