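-- Irreducible modules for a cyclic group of prime order over a prime field;
-- minimal normal subgroups of prime index. helper64.
import Mathlib

set_option autoImplicit false

namespace Cfsg.Agent.Lib.Helper64


open Polynomial in
/-- A finite `ZMod q`-module with an endomorphism `f` of prime order `p ≠ q` and no proper
nonzero `f`-invariant submodule has exactly `q ^ orderOf (q : ZMod p)` elements. -/
theorem card_of_irreducible_cyclic {q p : ℕ} [Fact q.Prime] [Fact p.Prime] (hpq : q ≠ p)
    {V : Type*} [AddCommGroup V] [Module (ZMod q) V] [Finite V]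
    (f : Module.End (ZMod q) V) (hfp : f ^ p = 1) (hf1 : f ≠ 1)
    (hirr : ∀ W : Submodule (ZMod q) V, (∀ w ∈ W, f w ∈ W) → W = ⊥ ∨ W = ⊤) :
    Nat.card V = q ^ orderOf (q : ZMod p) := by
  classical
  have hq : q.Prime := Fact.out
  have hp : p.Prime := Fact.out
  set e := orderOf (q : ZMod p) with he
  have hqp : (q : ZMod p) ≠ 0 := by
    rw [Ne, ZMod.natCast_eq_zero_iff]
    intro h
    exact hpq ((Nat.prime_dvd_prime_iff_eq hp hq).mp h).symm
  have he_pos : 0 < e := by
    apply orderOf_pos_iff.mpr
    rw [isOfFinOrder_iff_pow_eq_one]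
    exact ⟨p - 1, Nat.sub_pos_of_lt hp.one_lt, ZMod.pow_card_sub_one_eq_one hqp⟩
  have hqe : ∃ j, q ^ e = 1 + p * j := by
    have h1 : ((q ^ e : ℕ) : ZMod p) = ((1 : ℕ) : ZMod p) := by
      push_cast
      exact pow_orderOf_eq_one _
    rw [ZMod.natCast_eq_natCast_iff] at h1
    have h2 : p ∣ q ^ e - 1 := (Nat.modEq_iff_dvd' (Nat.one_le_pow _ _ hq.pos)).mp h1.symm
    obtain ⟨j, hj⟩ := h2
    refine ⟨j, ?_⟩
    have := Nat.one_le_pow e q hq.pos
    omega
  have hV : Nontrivial V := by
    by_contra h
    rw [not_nontrivial_iff_subsingleton] at h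
    apply hf1
    ext v
    exact Subsingleton.elim _ _
  obtain ⟨v₀, hv₀⟩ := exists_ne (0 : V)
  set R := Algebra.adjoin (ZMod q) ({f} : Set (Module.End (ZMod q) V)) with hR
  have hcommR : ∀ a b : R, a * b = b * a :=
    isMulCommutative_iff.mp (Algebra.isMulCommutative_adjoin (ZMod q) (by simp))
  let instCR : CommRing R := { (inferInstance : Ring R) with mul_comm := hcommR }
  have hfR : f ∈ R := Algebra.subset_adjoin (Set.mem_singleton f)
  have hcomm : ∀ r : R, f * (r : Module.End (ZMod q) V) = (r : Module.End (ZMod q) V) * f := by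
    intro r
    have h1 : (⟨f, hfR⟩ : R) * r = r * ⟨f, hfR⟩ := mul_comm _ _
    exact congrArg Subtype.val h1
  have hker : ∀ r : R, r ≠ 0 → LinearMap.ker (r : Module.End (ZMod q) V) = ⊥ := by
    intro r hr
    rcases hirr (LinearMap.ker (r : Module.End (ZMod q) V)) (by
      intro w hw
      rw [LinearMap.mem_ker] at hw ⊢
      have h1 := congrArg (fun g : Module.End (ZMod q) V => g w) (hcomm r)
      simp only [Module.End.mul_apply] at h1
      rw [← h1, hw, map_zero]) with h | h
    · exact h
    · exfalso
      apply hr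
      apply Subtype.ext
      exact LinearMap.ker_eq_top.mp h
  have hrange : ∀ r : R, r ≠ 0 → LinearMap.range (r : Module.End (ZMod q) V) = ⊤ := by
    intro r hr
    rcases hirr (LinearMap.range (r : Module.End (ZMod q) V)) (by
      rintro w ⟨u, rfl⟩
      have h1 := congrArg (fun g : Module.End (ZMod q) V => g u) (hcomm r)
      simp only [Module.End.mul_apply] at h1
      exact ⟨f u, h1.symm⟩) with h | h
    · exfalso
      apply hr
      apply Subtype.ext
      exact LinearMap.range_eq_bot.mp h
    · exact h
  have hdom : IsDomain R := by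
    have hnt : Nontrivial R := by
      refine ⟨⟨0, 1, ?_⟩⟩
      intro h01
      have h2 := congrArg (fun r : R => (r : Module.End (ZMod q) V) v₀) h01
      simp at h2
      exact hv₀ h2.symm
    have hnzd : NoZeroDivisors R := by
      refine ⟨?_⟩
      intro a b hab
      by_contra hne
      push Not at hne
      obtain ⟨ha, hb⟩ := hne
      have hb' := hrange b hb
      apply ha
      apply Subtype.ext
      apply LinearMap.ext
      intro v
      obtain ⟨u, rfl⟩ : v ∈ LinearMap.range (b : Module.End (ZMod q) V) := by rw [hb']; trivial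
      have h2 := congrArg (fun r : R => (r : Module.End (ZMod q) V) u) hab
      simpa using h2
    exact NoZeroDivisors.to_isDomain R
  have hfin : Finite R := by
    have : Finite (Module.End (ZMod q) V) := Finite.of_injective _ DFunLike.coe_injective
    exact Finite.of_injective _ Subtype.val_injective
  have hchar : CharP R q :=
    charP_of_injective_algebraMap (algebraMap (ZMod q) R).injective q
  have hff : f ^ (q ^ e) = f := by
    obtain ⟨j, hj⟩ := hqe
    rw [hj, pow_add, pow_one, pow_mul, hfp, one_pow, mul_one]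
  have hfrob : ∀ r : R, r ^ (q ^ e) = r := by
    rintro ⟨r, hr⟩
    induction hr using Algebra.adjoin_induction with
    | mem x hx =>
      rw [Set.mem_singleton_iff] at hx
      subst hx
      apply Subtype.ext
      exact hff
    | algebraMap c =>
      apply Subtype.ext
      show (algebraMap (ZMod q) (Module.End (ZMod q) V) c) ^ (q ^ e) = algebraMap _ _ c
      rw [← map_pow, ZMod.pow_card_pow]
    | add x y hx hy ihx ihy =>
      have h1 : (⟨x + y, add_mem hx hy⟩ : R) = ⟨x, hx⟩ + ⟨y, hy⟩ := rfl
      rw [h1, add_pow_char_pow, ihx, ihy]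
    | mul x y hx hy ihx ihy =>
      have h1 : (⟨x * y, mul_mem hx hy⟩ : R) = ⟨x, hx⟩ * ⟨y, hy⟩ := rfl
      rw [h1, mul_pow, ihx, ihy]
  have hRle : Nat.card R ≤ q ^ e := by
    have hfint : Fintype R := Fintype.ofFinite R
    rw [Nat.card_eq_fintype_card]
    have hdeg : (X ^ q ^ e - X : R[X]).natDegree = q ^ e := by
      have h1 : (X : R[X]).natDegree < (X ^ q ^ e : R[X]).natDegree := by
        rw [natDegree_X_pow, natDegree_X]
        exact Nat.one_lt_pow he_pos.ne' hq.one_lt
      rw [natDegree_sub_eq_left_of_natDegree_lt h1, natDegree_X_pow]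
    have hne : (X ^ q ^ e - X : R[X]) ≠ 0 := by
      intro h0
      rw [h0, natDegree_zero] at hdeg
      exact (Nat.pow_pos hq.pos).ne hdeg
    have hsub : (Finset.univ : Finset R).val ⊆ (X ^ q ^ e - X : R[X]).roots := by
      intro r _
      rw [Polynomial.mem_roots hne, Polynomial.IsRoot.def]
      simp [hfrob r]
    have h2 := Polynomial.card_le_degree_of_subset_roots hsub
    rw [hdeg] at h2
    simpa using h2
  have hVR : Nat.card V = Nat.card R := by
    symm
    refine Nat.card_congr (Equiv.ofBijective (fun r : R => (r : Module.End (ZMod q) V) v₀) ⟨?_, ?_⟩)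
    · intro a b hab
      by_contra hne
      have h1 : a - b ≠ 0 := sub_ne_zero.mpr hne
      have h2 := hker (a - b) h1
      have h3 : v₀ ∈ LinearMap.ker ((a - b : R) : Module.End (ZMod q) V) := by
        rw [LinearMap.mem_ker]
        have hab' : (a : Module.End (ZMod q) V) v₀ = (b : Module.End (ZMod q) V) v₀ := hab
        simp [hab']
      rw [h2] at h3
      exact hv₀ ((Submodule.mem_bot _).mp h3)
    · intro v
      let W : Submodule (ZMod q) V :=
        { carrier := {w | ∃ r : R, (r : Module.End (ZMod q) V) v₀ = w}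
          add_mem' := by
            rintro _ _ ⟨a, rfl⟩ ⟨b, rfl⟩
            exact ⟨a + b, by simp⟩
          zero_mem' := ⟨0, by simp⟩
          smul_mem' := by
            rintro c _ ⟨a, rfl⟩
            exact ⟨c • a, by simp⟩ }
      rcases hirr W (by
        rintro _ ⟨a, rfl⟩
        exact ⟨⟨f, hfR⟩ * a, by simp⟩) with h | h
      · exfalso
        have h1 : v₀ ∈ W := ⟨1, by simp⟩
        rw [h] at h1
        exact hv₀ ((Submodule.mem_bot _).mp h1)
      · have h1 : v ∈ W := by rw [h]; trivial
        exact h1
  -- lower bound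
  have hcardV : Nat.card V = q ^ Module.finrank (ZMod q) V := by
    rw [Module.natCard_eq_pow_finrank (K := ZMod q) (V := V), Nat.card_zmod]
  set k := Module.finrank (ZMod q) V with hk
  have hfix : ∀ v : V, f v = v → v = 0 := by
    intro v hv
    let W : Submodule (ZMod q) V :=
      { carrier := {w | f w = w}
        add_mem' := by
          intro a b ha hb
          have ha' : f a = a := ha
          have hb' : f b = b := hb
          show f (a + b) = a + b
          rw [map_add, ha', hb']
        zero_mem' := by
          show f 0 = 0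
          simp
        smul_mem' := by
          intro c a ha
          have ha' : f a = a := ha
          show f (c • a) = c • a
          rw [map_smul, ha'] }
    rcases hirr W (by
      intro w hw
      have hw' : f w = w := hw
      show f (f w) = f w
      exact congrArg f hw') with h | h
    · have h1 : v ∈ W := hv
      rw [h] at h1
      exact (Submodule.mem_bot _).mp h1
    · exfalso
      apply hf1
      ext w
      have h1 : w ∈ W := by rw [h]; trivial
      exact h1
  have hmod : Nat.card V ≡ 1 [MOD p] := by
    have hfint : Fintype V := Fintype.ofFinite V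
    obtain ⟨F, hFdef⟩ : ∃ F : Function.End V, ∀ v, F v = f v := ⟨⇑f, fun _ => rfl⟩
    have hF : ∀ n : ℕ, ∀ v : V, (F ^ n) v = (f ^ n) v := by
      intro n
      induction n with
      | zero => intro v; rfl
      | succ n ih =>
        intro v
        rw [pow_succ, pow_succ]
        show (F ^ n) (F v) = (f ^ n) (f v)
        rw [hFdef, ih]
    have hFp : F ^ p ^ 1 = 1 := by
      rw [pow_one]
      funext v
      rw [hF, hfp]
      rfl
    have h1 := Equiv.Perm.card_fixedPoints_modEq (p := p) (n := 1) hFp
    rw [← Nat.card_eq_fintype_card, ← Nat.card_eq_fintype_card] at h1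
    have h2 : Nat.card (Function.fixedPoints F) = 1 := by
      rw [Nat.card_eq_one_iff_unique]
      refine ⟨⟨?_⟩, ⟨⟨0, ?_⟩⟩⟩
      · rintro ⟨v, hv⟩ ⟨w, hw⟩
        apply Subtype.ext
        have hv' : F v = v := hv
        have hw' : F w = w := hw
        rw [hFdef] at hv' hw'
        show v = w
        rw [hfix v hv', hfix w hw']
      · show F 0 = 0
        rw [hFdef, map_zero]
    rw [h2] at h1
    exact h1
  have hk_pos : 0 < k := by
    by_contra h0
    have h0' : k = 0 := by omega
    rw [h0', pow_zero] at hcardV
    have : Subsingleton V := (Nat.card_eq_one_iff_unique.mp hcardV).1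
    exact not_subsingleton V this
  have hek : e ∣ k := by
    apply orderOf_dvd_of_pow_eq_one
    rw [hcardV] at hmod
    have h1 : ((q ^ k : ℕ) : ZMod p) = ((1 : ℕ) : ZMod p) := (ZMod.natCast_eq_natCast_iff _ _ _).mpr hmod
    push_cast at h1
    exact h1
  have hle : q ^ e ≤ q ^ k := Nat.pow_le_pow_right hq.pos (Nat.le_of_dvd hk_pos hek)
  rw [← hcardV] at hle
  rw [hVR] at hle ⊢
  exact le_antisymm hRle hle



/-- additive group form -/
theorem card_of_irreducible_addGroup {q p : ℕ} [Fact q.Prime] [Fact p.Prime] (hpq : q ≠ p)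
    {V : Type*} [AddCommGroup V] [Finite V] (hq : ∀ v : V, q • v = 0)
    (f : V →+ V) (hfp : ∀ v : V, f^[p] v = v) (hf1 : ∃ v : V, f v ≠ v)
    (hirr : ∀ W : AddSubgroup V, (∀ w ∈ W, f w ∈ W) → W = ⊥ ∨ W = ⊤) :
    Nat.card V = q ^ orderOf (q : ZMod p) := by
  obtain ⟨instM⟩ : Nonempty (Module (ZMod q) V) := ⟨AddCommGroup.zmodModule hq⟩
  obtain ⟨g, hg⟩ : ∃ g : Module.End (ZMod q) V, ∀ x : V, g x = f x :=
    ⟨f.toZModLinearMap q, fun x => rfl⟩
  have hgn : ∀ n : ℕ, ∀ x : V, (g ^ n) x = f^[n] x := by
    intro n
    induction n with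
    | zero => intro x; rfl
    | succ n ih =>
      intro x
      rw [pow_succ, Module.End.mul_apply, ih, hg, Function.iterate_succ_apply]
  refine card_of_irreducible_cyclic hpq g ?_ ?_ ?_
  · ext x
    rw [hgn, hfp]
    rfl
  · intro h
    obtain ⟨a, ha⟩ := hf1
    apply ha
    have h2 := congrArg (fun g' : Module.End (ZMod q) V => g' a) h
    rw [← hg]
    exact h2
  · intro W hW
    rcases hirr W.toAddSubgroup (fun b hb => by
      have h3 := hW b hb
      rw [hg] at h3
      exact h3) with h | h
    · left
      rw [eq_bot_iff]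
      intro w hw
      have h2 : w ∈ W.toAddSubgroup := hw
      rw [h, AddSubgroup.mem_bot] at h2
      rw [Submodule.mem_bot]
      exact h2
    · right
      rw [eq_top_iff]
      intro w _
      have h2 : w ∈ W.toAddSubgroup := by rw [h]; trivial
      exact h2

/-- group form: a finite commutative group of exponent `q` with an endomorphism `σ` with
`σ^p = 1`, `σ ≠ 1` and no proper nontrivial invariant subgroup has order `q ^ ord_p(q)` -/
theorem card_of_irreducible_group {q p : ℕ} [Fact q.Prime] [Fact p.Prime] (hpq : q ≠ p)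
    {A : Type*} [CommGroup A] [Finite A] (hq : ∀ a : A, a ^ q = 1)
    (σ : A →* A) (hσp : ∀ a : A, σ^[p] a = a) (hσ1 : ∃ a : A, σ a ≠ a)
    (hirr : ∀ B : Subgroup A, (∀ b ∈ B, σ b ∈ B) → B = ⊥ ∨ B = ⊤) :
    Nat.card A = q ^ orderOf (q : ZMod p) := by
  have hiter : ∀ n : ℕ, ∀ x : Additive A,
      (MonoidHom.toAdditive σ)^[n] x = Additive.ofMul (σ^[n] x.toMul) := by
    intro n
    induction n with
    | zero => intro x; rfl
    | succ n ih =>
      intro x
      rw [Function.iterate_succ_apply, ih, Function.iterate_succ_apply]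
      rfl
  have h1 := card_of_irreducible_addGroup (V := Additive A) hpq (by
    intro x
    show Additive.ofMul (x.toMul ^ q) = Additive.ofMul 1
    rw [hq]) (MonoidHom.toAdditive σ) (by
    intro x
    rw [hiter, hσp]
    rfl) (by
    obtain ⟨a, ha⟩ := hσ1
    refine ⟨Additive.ofMul a, fun h => ha ?_⟩
    exact congrArg Additive.toMul h) (by
    intro W hW
    let B : Subgroup A :=
      { carrier := {a | Additive.ofMul a ∈ W}
        mul_mem' := fun {a b} ha hb => W.add_mem ha hb
        one_mem' := W.zero_mem
        inv_mem' := fun {a} ha => W.neg_mem ha }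
    rcases hirr B (fun b hb => hW _ hb) with h | h
    · left
      rw [eq_bot_iff]
      intro w hw
      have h2 : w.toMul ∈ B := hw
      rw [h, Subgroup.mem_bot] at h2
      rw [AddSubgroup.mem_bot]
      exact congrArg Additive.ofMul h2
    · right
      rw [eq_top_iff]
      intro w _
      have h2 : w.toMul ∈ B := by rw [h]; trivial
      exact h2)
  rw [← h1]
  exact Nat.card_congr Additive.ofMul



/-- a subgroup of prime index and an element outside generate the group -/
theorem sup_zpowers_eq_top_of_index_prime {G : Type*} [Group G] {p : ℕ} (hp : p.Prime)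
    (A : Subgroup G) (hidx : A.index = p) {x : G} (hx : x ∉ A) : A ⊔ Subgroup.zpowers x = ⊤ := by
  have h1 : (A ⊔ Subgroup.zpowers x).index ∣ A.index := Subgroup.index_dvd_of_le le_sup_left
  rw [hidx] at h1
  rcases (Nat.dvd_prime hp).mp h1 with h | h
  · exact Subgroup.index_eq_one.mp h
  · exfalso
    have h2 := Subgroup.relIndex_mul_index (le_sup_left : A ≤ A ⊔ Subgroup.zpowers x)
    rw [h, hidx] at h2
    have h3 : A.relIndex (A ⊔ Subgroup.zpowers x) = 1 := by
      have := hp.pos
      nlinarith
    rw [Subgroup.relIndex_eq_one] at h3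
    exact hx (h3 (Subgroup.mem_sup_right (Subgroup.mem_zpowers x)))

/-- a group generated by an abelian subgroup and an element centralizing it is abelian -/
theorem comm_of_sup_zpowers {G : Type*} [Group G] (A : Subgroup G)
    (hAc : ∀ a ∈ A, ∀ b ∈ A, a * b = b * a) (x : G) (hxA : ∀ a ∈ A, x * a = a * x)
    (hsup : A ⊔ Subgroup.zpowers x = ⊤) : ∀ a b : G, a * b = b * a := by
  have hcen : ∀ g ∈ (A : Set G) ∪ {x}, Subgroup.centralizer ({g} : Set G) = ⊤ := by
    intro g hg
    rw [eq_top_iff, ← hsup, sup_le_iff]
    constructor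
    · intro a ha
      rw [Subgroup.mem_centralizer_iff]
      intro h hh
      rw [Set.mem_singleton_iff] at hh
      subst hh
      rcases hg with hg | hg
      · exact hAc h hg a ha
      · rw [Set.mem_singleton_iff] at hg
        subst hg
        exact hxA a ha
    · rw [Subgroup.zpowers_le, Subgroup.mem_centralizer_iff]
      intro h hh
      rw [Set.mem_singleton_iff] at hh
      subst hh
      rcases hg with hg | hg
      · exact (hxA h hg).symm
      · rw [Set.mem_singleton_iff] at hg
        subst hg
        rfl
  intro a b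
  have h2 : Subgroup.centralizer ({a} : Set G) = ⊤ := by
    rw [eq_top_iff, ← hsup, sup_le_iff]
    constructor
    · intro c hc
      rw [Subgroup.mem_centralizer_iff]
      intro h hh
      rw [Set.mem_singleton_iff] at hh
      subst hh
      have h3 : h ∈ Subgroup.centralizer ({c} : Set G) := by
        rw [hcen c (Or.inl hc)]; trivial
      exact (Subgroup.mem_centralizer_iff.mp h3 c rfl).symm
    · rw [Subgroup.zpowers_le, Subgroup.mem_centralizer_iff]
      intro h hh
      rw [Set.mem_singleton_iff] at hh
      subst hh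
      have h3 : h ∈ Subgroup.centralizer ({x} : Set G) := by
        rw [hcen x (Or.inr rfl)]; trivial
      exact (Subgroup.mem_centralizer_iff.mp h3 x rfl).symm
  have h4 : b ∈ Subgroup.centralizer ({a} : Set G) := by rw [h2]; trivial
  exact Subgroup.mem_centralizer_iff.mp h4 a rfl

/-- a minimal normal elementary abelian `q`-subgroup of prime index `p ≠ q` in a nonabelian
finite group has order `q ^ ord_p(q)` -/
theorem card_minimal_normal {G : Type*} [Group G] [Finite G] {p q : ℕ} [Fact p.Prime]
    (hq : q.Prime) (hpq : q ≠ p) (hna : ¬ ∀ a b : G, a * b = b * a) (A : Subgroup G) [hAn : A.Normal]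
    (hAc : ∀ a ∈ A, ∀ b ∈ A, a * b = b * a) (hAq : ∀ a ∈ A, a ^ q = 1) (hidx : A.index = p)
    (hmin : ∀ B : Subgroup G, B.Normal → B ≤ A → B = ⊥ ∨ B = A) :
    Nat.card ↥A = q ^ orderOf (q : ZMod p) := by
  have : Fact q.Prime := ⟨hq⟩
  have hp : p.Prime := Fact.out
  let instCG : CommGroup ↥A :=
    { (inferInstance : Group ↥A) with mul_comm := fun a b => Subtype.ext (hAc a a.2 b b.2) }
  have hAtop : A ≠ ⊤ := by
    intro h
    rw [h, Subgroup.index_top] at hidx
    exact hp.one_lt.ne hidx
  obtain ⟨x, hx⟩ : ∃ x, x ∉ A := by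
    by_contra h
    push Not at h
    exact hAtop (eq_top_iff.mpr fun g _ => h g)
  have hsup := sup_zpowers_eq_top_of_index_prime hp A hidx hx
  let σ : ↥A →* ↥A :=
    { toFun := fun a => ⟨x * a * x⁻¹, hAn.conj_mem a a.2 x⟩
      map_one' := by ext; simp
      map_mul' := by intro a b; ext; simp }
  have hσ : ∀ a : ↥A, ((σ a : ↥A) : G) = x * a * x⁻¹ := fun a => rfl
  have hσn : ∀ n : ℕ, ∀ a : ↥A, ((σ^[n] a : ↥A) : G) = x ^ n * a * (x ^ n)⁻¹ := by
    intro n
    induction n with
    | zero => intro a; simp
    | succ n ih =>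
      intro a
      rw [Function.iterate_succ_apply', hσ, ih, pow_succ']
      group
  have hxp : x ^ p ∈ A := by
    rw [← hidx]
    exact Subgroup.pow_index_mem A x
  have hσp : ∀ a : ↥A, σ^[p] a = a := by
    intro a
    apply Subtype.ext
    rw [hσn, hAc (x ^ p) hxp a a.2]
    group
  refine card_of_irreducible_group hpq (A := ↥A) (fun a => Subtype.ext (by simpa using hAq a a.2))
    σ hσp ?_ ?_
  · by_contra hall
    push Not at hall
    apply hna
    have hxA : ∀ a ∈ A, x * a = a * x := by
      intro a ha
      have h1 : x * a * x⁻¹ = a := congrArg Subtype.val (hall ⟨a, ha⟩)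
      calc x * a = (x * a * x⁻¹) * x := by group
        _ = a * x := by rw [h1]
    exact comm_of_sup_zpowers A hAc x hxA hsup
  · intro B hB
    have hnorm : (B.map A.subtype).Normal := by
      rw [← Subgroup.normalizer_eq_top_iff, eq_top_iff, ← hsup, sup_le_iff]
      constructor
      · intro a ha
        rw [Subgroup.mem_normalizer_iff]
        intro b
        have key : ∀ b ∈ A, a * b * a⁻¹ = b := fun b hb => by rw [hAc a ha b hb]; group
        constructor
        · rintro ⟨b', hb', rfl⟩
          show a * (b' : G) * a⁻¹ ∈ Subgroup.map A.subtype B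
          rw [key _ b'.2]
          exact ⟨b', hb', rfl⟩
        · rintro ⟨c, hc, hcb⟩
          have hbA : b ∈ A := by
            have h1 : b = a⁻¹ * (a * b * a⁻¹) * a := by group
            rw [h1, ← hcb]
            exact A.mul_mem (A.mul_mem (A.inv_mem ha) c.2) ha
          rw [key b hbA] at hcb
          exact ⟨c, hc, hcb⟩
      · rw [Subgroup.zpowers_le, Subgroup.mem_normalizer_iff]
        intro b
        constructor
        · rintro ⟨b', hb', rfl⟩
          exact ⟨σ b', hB b' hb', rfl⟩
        · rintro ⟨c, hc, hcb⟩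
          have hbA : b ∈ A := by
            have h1 : b = x⁻¹ * (x * b * x⁻¹) * x := by group
            rw [h1, ← hcb]
            exact hAn.conj_mem' _ c.2 x
          have h1 : σ ⟨b, hbA⟩ = c := Subtype.ext hcb.symm
          have h2 : ∀ n, σ^[n] c ∈ B := by
            intro n
            induction n with
            | zero => exact hc
            | succ n ih =>
              rw [Function.iterate_succ_apply']
              exact hB _ ih
          have h3 : σ^[p] ⟨b, hbA⟩ = ⟨b, hbA⟩ := hσp _
          have h4 : σ^[p] ⟨b, hbA⟩ = σ^[p - 1] c := by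
            have hp1 : p = (p - 1) + 1 := by have := hp.pos; omega
            conv_lhs => rw [hp1, Function.iterate_succ_apply, h1]
          refine ⟨⟨b, hbA⟩, ?_, rfl⟩
          rw [← h3, h4]
          exact h2 _
    rcases hmin (B.map A.subtype) hnorm (Subgroup.map_subtype_le B) with h | h
    · left
      rw [eq_bot_iff]
      intro b hb
      have h1 : (b : G) ∈ B.map A.subtype := ⟨b, hb, rfl⟩
      rw [h, Subgroup.mem_bot] at h1
      rw [Subgroup.mem_bot]
      exact Subtype.ext h1
    · right
      rw [eq_top_iff]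
      intro b _
      have h1 : (b : G) ∈ B.map A.subtype := by rw [h]; exact b.2
      obtain ⟨b', hb', hbb⟩ := h1
      have h2 : b' = b := Subtype.ext hbb
      rw [← h2]
      exact hb'


/-- a subgroup of an abelian subgroup `A` that is invariant under an element generating the
group together with `A` is normal -/
theorem normal_of_conj_mem_of_sup {G : Type*} [Group G] [Finite G] (A : Subgroup G)
    (hAc : ∀ a ∈ A, ∀ b ∈ A, a * b = b * a) (B : Subgroup G) (hBA : B ≤ A) (x : G)
    (hsup : A ⊔ Subgroup.zpowers x = ⊤) (hx : ∀ b ∈ B, x * b * x⁻¹ ∈ B) : B.Normal := by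
  rw [← Subgroup.normalizer_eq_top_iff, eq_top_iff, ← hsup, sup_le_iff]
  constructor
  · intro a ha
    rw [Subgroup.mem_normalizer_iff]
    intro b
    have key : ∀ b ∈ A, a * b * a⁻¹ = b := fun b hb => by rw [hAc a ha b hb]; group
    constructor
    · intro hb
      rw [key b (hBA hb)]
      exact hb
    · intro hb
      have hbA : b ∈ A := by
        have h1 : b = a⁻¹ * (a * b * a⁻¹) * a := by group
        rw [h1]
        exact A.mul_mem (A.mul_mem (A.inv_mem ha) (hBA hb)) ha
      rw [key b hbA] at hb
      exact hb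
  · rw [Subgroup.zpowers_le, Subgroup.mem_normalizer_iff]
    intro b
    refine ⟨hx b, fun hb => ?_⟩
    have hn : ∀ n : ℕ, ∀ c ∈ B, x ^ n * c * (x ^ n)⁻¹ ∈ B := by
      intro n
      induction n with
      | zero => intro c hc; simpa using hc
      | succ n ih =>
        intro c hc
        have h1 : x ^ (n + 1) * c * (x ^ (n + 1))⁻¹ = x * (x ^ n * c * (x ^ n)⁻¹) * x⁻¹ := by
          rw [pow_succ']; group
        rw [h1]
        exact hx _ (ih c hc)
    have hpos : 0 < orderOf x := orderOf_pos x
    have h2 := hn (orderOf x - 1) _ hb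
    have h3 : x ^ (orderOf x - 1) * (x * b * x⁻¹) * (x ^ (orderOf x - 1))⁻¹ = b := by
      have h4 : x ^ (orderOf x - 1) * x = 1 := by
        rw [← pow_succ, Nat.sub_add_cancel hpos, pow_orderOf_eq_one]
      have h5 : x ^ (orderOf x - 1) = x⁻¹ := eq_inv_of_mul_eq_one_left h4
      rw [h5]
      group
    rw [h3] at h2
    exact h2

end Cfsg.Agent.Lib.Helper64
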