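import Mathlib
import Cfsg.Agent.Lib.Helper17.Simple
import Cfsg.Agent.Lib.Helper17.Count
import Cfsg.Agent.Lib.Helper10.Card

/-!
# Groups of order 60 that are not simple have a normal Sylow 5-subgroup
-/

set_option autoImplicit false
set_option linter.style.haveILetI false
set_option linter.unusedSectionVars false

namespace Cfsg.Agent.Lib.Helper64.Order60

open Cfsg.Agent.Lib.Helper17

variable {G : Type*} [Group G] [Finite G]

/-- If `p` does not divide the order, there is exactly one Sylow `p`-subgroup. -/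
theorem card_sylow_eq_one_of_not_dvd (p : ℕ) [Fact p.Prime] (h : ¬ p ∣ Nat.card G) :
    Nat.card (Sylow p G) = 1 := by
  obtain ⟨P⟩ := (Sylow.nonempty : Nonempty (Sylow p G))
  have hP : Nat.card (P : Subgroup G) = 1 := by
    rw [Sylow.card_eq_multiplicity, Nat.factorization_eq_zero_of_not_dvd h, pow_zero]
  have hbot : (P : Subgroup G) = ⊥ := Subgroup.card_eq_one.mp hP
  have h1 := card_sylow_mul_card_normalizer p P
  have h2 : Subgroup.normalizer ((P : Subgroup G) : Set G) = ⊤ := by
    rw [eq_top_iff]
    intro g _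
    rw [Subgroup.mem_normalizer_iff]
    intro x
    rw [hbot, Subgroup.mem_bot, Subgroup.mem_bot]
    constructor
    · intro hx; rw [hx]; group
    · intro hx
      have : x = g⁻¹ * (g * x * g⁻¹) * g := by group
      rw [this, hx]; group
  rw [h2, Subgroup.card_top] at h1
  have hpos : 0 < Nat.card G := Nat.card_pos
  exact Nat.eq_of_mul_eq_mul_right hpos (by rw [h1, one_mul])

/-- A unique Sylow subgroup is normal. -/
theorem sylow_normal_of_card_eq_one (p : ℕ) [Fact p.Prime] (h : Nat.card (Sylow p G) = 1)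
    (P : Sylow p G) : (P : Subgroup G).Normal := by
  haveI : Subsingleton (Sylow p G) := (Nat.card_eq_one_iff_unique.mp h).1
  infer_instance

/-- A normal Sylow subgroup is the unique one. -/
theorem card_sylow_eq_one_of_normal (p : ℕ) [Fact p.Prime] (P : Sylow p G)
    (h : (P : Subgroup G).Normal) : Nat.card (Sylow p G) = 1 := by
  haveI := Sylow.unique_of_normal P h
  exact Nat.card_unique

/-- Lifting normality of a Sylow subgroup through a quotient. -/
theorem sylow_normal_of_quotient (p : ℕ) [Fact p.Prime] (N : Subgroup G) [N.Normal]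
    (P : Sylow p G) (h1 : Nat.card (Sylow p (G ⧸ N)) = 1)
    (h2 : Nat.card (Sylow p ↥((P : Subgroup G) ⊔ N)) = 1) : (P : Subgroup G).Normal := by
  have hPbar : ((P.mapSurjective (QuotientGroup.mk'_surjective N) : Sylow p (G ⧸ N)) :
      Subgroup (G ⧸ N)).Normal := sylow_normal_of_card_eq_one p h1 _
  have hM : ((P : Subgroup G) ⊔ N).Normal := by
    have hc : ((P.mapSurjective (QuotientGroup.mk'_surjective N) : Sylow p (G ⧸ N)) :
        Subgroup (G ⧸ N)).comap (QuotientGroup.mk' N) = (P : Subgroup G) ⊔ N := by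
      rw [Sylow.coe_mapSurjective, Subgroup.comap_map_eq, QuotientGroup.ker_mk']
    rw [← hc]
    exact hPbar.comap _
  haveI : Subsingleton (Sylow p ↥((P : Subgroup G) ⊔ N)) := (Nat.card_eq_one_iff_unique.mp h2).1
  have hle1 : (P : Subgroup G) ≤ (P : Subgroup G) ⊔ N := le_sup_left
  have key : ∀ g : G, g • P = P := by
    intro g
    have hle2 : ((g • P : Sylow p G) : Subgroup G) ≤ (P : Subgroup G) ⊔ N := by
      intro x hx
      rw [Sylow.coe_subgroup_smul, Subgroup.mem_pointwise_smul_iff_inv_smul_mem] at hx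
      have hx' : g⁻¹ * x * g ∈ (P : Subgroup G) := by
        simpa [MulAut.smul_def] using hx
      have := hM.conj_mem _ (hle1 hx') g
      have e : g * (g⁻¹ * x * g) * g⁻¹ = x := by group
      rwa [e] at this
    exact Sylow.subtype_injective (Subsingleton.elim ((g • P).subtype hle2) (P.subtype hle1))
  constructor
  intro x hx g
  have h3 : g * x * g⁻¹ ∈ ((g • P : Sylow p G) : Subgroup G) := by
    rw [Sylow.coe_subgroup_smul, Subgroup.mem_pointwise_smul_iff_inv_smul_mem]
    have e : (MulAut.conj g)⁻¹ • (g * x * g⁻¹) = x := by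
      rw [MulAut.smul_def, MulAut.conj_inv_apply]; group
    rw [e]; exact hx
  rw [key g] at h3
  exact h3

/-- Two sets of elements of distinct orders. -/
theorem card_orderOf_add_le (p q : ℕ) (hpq : p ≠ q) :
    Nat.card {x : G // orderOf x = p} + Nat.card {x : G // orderOf x = q} ≤ Nat.card G := by
  rw [← Nat.card_sum]
  apply Nat.card_le_card_of_injective
    (Sum.elim (Subtype.val : {x : G // orderOf x = p} → G)
      (Subtype.val : {x : G // orderOf x = q} → G))
  rintro (a | a) (b | b) h
  · simp only [Sum.elim_inl] at h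
    rw [Subtype.ext h]
  · simp only [Sum.elim_inl, Sum.elim_inr] at h
    exact absurd (a.2.symm.trans ((congrArg orderOf h).trans b.2)) hpq
  · simp only [Sum.elim_inl, Sum.elim_inr] at h
    exact absurd (b.2.symm.trans ((congrArg orderOf h.symm).trans a.2)) hpq
  · simp only [Sum.elim_inr] at h
    rw [Subtype.ext h]

/-- Order of a quotient. -/
theorem card_quotient_mul (N : Subgroup G) [N.Normal] :
    Nat.card (G ⧸ N) * Nat.card N = Nat.card G := by
  rw [← Subgroup.index_eq_card, Subgroup.index_mul_card]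

/-- Product formula for the join with a normal subgroup. -/
theorem card_sup_mul_card_inf (H N : Subgroup G) [N.Normal] :
    Nat.card ↥(H ⊔ N) * Nat.card ↥(H ⊓ N) = Nat.card H * Nat.card N := by
  rw [← Cfsg.Agent.Lib.Helper10.card_mul_card_inf H N, ← Subgroup.mul_normal H N]
  rfl

theorem card_sup_of_coprime (H N : Subgroup G) [N.Normal]
    (hc : (Nat.card H).Coprime (Nat.card N)) :
    Nat.card ↥(H ⊔ N) = Nat.card H * Nat.card N := by
  have h := card_sup_mul_card_inf H N
  have h1 : Nat.card ↥(H ⊓ N) = 1 := by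
    have d1 : Nat.card ↥(H ⊓ N) ∣ Nat.card H := Subgroup.card_dvd_of_le inf_le_left
    have d2 : Nat.card ↥(H ⊓ N) ∣ Nat.card N := Subgroup.card_dvd_of_le inf_le_right
    exact Nat.eq_one_of_dvd_coprimes hc d1 d2
  rw [h1, mul_one] at h
  exact h

/-- A group of order 30 has a normal Sylow 5-subgroup. -/
theorem card_sylow_five_of_card_thirty {K : Type*} [Group K] [Finite K] (h : Nat.card K = 30) :
    Nat.card (Sylow 5 K) = 1 := by
  haveI : Fact (Nat.Prime 5) := ⟨by norm_num⟩
  haveI : Fact (Nat.Prime 3) := ⟨by norm_num⟩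
  have h5 := card_sylow_mem_cands (G := K) 5 1 6 (by rw [h]; norm_num) (by norm_num)
  have h3 := card_sylow_mem_cands (G := K) 3 1 10 (by rw [h]; norm_num) (by norm_num)
  have e5 : sylowCands 5 6 = [1, 6] := by decide
  have e3 : sylowCands 3 10 = [1, 10] := by decide
  rw [e5] at h5
  rw [e3] at h3
  simp only [List.mem_cons, List.not_mem_nil, or_false] at h5 h3
  rcases h5 with h5 | h5
  · exact h5
  exfalso
  obtain ⟨P⟩ := (Sylow.nonempty : Nonempty (Sylow 5 K))
  obtain ⟨T⟩ := (Sylow.nonempty : Nonempty (Sylow 3 K))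
  have hP : Nat.card (P : Subgroup K) = 5 := by
    simpa using card_sylow_eq_of_card_eq 5 1 6 (by rw [h]; norm_num) (by norm_num) P
  have hT : Nat.card (T : Subgroup K) = 3 := by
    simpa using card_sylow_eq_of_card_eq 3 1 10 (by rw [h]; norm_num) (by norm_num) T
  rcases h3 with h3 | h3
  · haveI hTn : (T : Subgroup K).Normal := sylow_normal_of_card_eq_one 3 h3 T
    have hq : Nat.card (Sylow 5 (K ⧸ (T : Subgroup K))) = 1 := by
      have hc : Nat.card (K ⧸ (T : Subgroup K)) = 5 ^ 1 * 2 := by
        have := card_quotient_mul (T : Subgroup K)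
        rw [hT, h] at this
        omega
      have h' := card_sylow_mem_cands (G := K ⧸ (T : Subgroup K)) 5 1 2 hc (by norm_num)
      have e : sylowCands 5 2 = [1] := by decide
      rw [e] at h'
      simpa using h'
    have hs : Nat.card (Sylow 5 ↥((P : Subgroup K) ⊔ (T : Subgroup K))) = 1 := by
      have hc : Nat.card ↥((P : Subgroup K) ⊔ (T : Subgroup K)) = 5 ^ 1 * 3 := by
        rw [card_sup_of_coprime _ _ (by rw [hP, hT]; norm_num), hP, hT]
        norm_num
      have h' := card_sylow_mem_cands (G := ↥((P : Subgroup K) ⊔ (T : Subgroup K))) 5 1 3 hc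
        (by norm_num)
      have e : sylowCands 5 3 = [1] := by decide
      rw [e] at h'
      simpa using h'
    have hPn := sylow_normal_of_quotient 5 (T : Subgroup K) P hq hs
    have := card_sylow_eq_one_of_normal 5 P hPn
    omega
  · have c5 := card_orderOf_eq_prime 5 P hP
    have c3 := card_orderOf_eq_prime 3 T hT
    have := card_orderOf_add_le (G := K) 5 3 (by norm_num)
    rw [c5, c3, h5, h3, h] at this
    omega

/-- A group of order 12 without a normal Sylow 3-subgroup has a normal Sylow 2-subgroup. -/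
theorem card_sylow_two_of_card_twelve {K : Type*} [Group K] [Finite K] (h : Nat.card K = 12)
    (h3 : Nat.card (Sylow 3 K) ≠ 1) : Nat.card (Sylow 2 K) = 1 := by
  classical
  haveI : Fact (Nat.Prime 2) := ⟨Nat.prime_two⟩
  haveI : Fact (Nat.Prime 3) := ⟨by norm_num⟩
  haveI : Fintype K := Fintype.ofFinite K
  have h3' := card_sylow_mem_cands (G := K) 3 1 4 (by rw [h]; norm_num) (by norm_num)
  have e3 : sylowCands 3 4 = [1, 4] := by decide
  rw [e3] at h3'
  simp only [List.mem_cons, List.not_mem_nil, or_false] at h3'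
  have h34 : Nat.card (Sylow 3 K) = 4 := by
    rcases h3' with h' | h'
    · exact absurd h' h3
    · exact h'
  obtain ⟨T⟩ := (Sylow.nonempty : Nonempty (Sylow 3 K))
  have hT : Nat.card (T : Subgroup K) = 3 := by
    simpa using card_sylow_eq_of_card_eq 3 1 4 (by rw [h]; norm_num) (by norm_num) T
  have c3 := card_orderOf_eq_prime 3 T hT
  rw [h34] at c3
  have hB : (Finset.univ.filter (fun x : K => ¬ orderOf x = 3)).card = 4 := by
    have h1 : (Finset.univ.filter (fun x : K => orderOf x = 3)).card = 8 := by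
      rw [← Fintype.card_subtype, ← Nat.card_eq_fintype_card, c3]
    have h2 := Finset.card_filter_add_card_filter_not (s := (Finset.univ : Finset K))
      (fun x : K => orderOf x = 3)
    rw [h1, Finset.card_univ, ← Nat.card_eq_fintype_card, h] at h2
    omega
  have hQ : ∀ Q : Sylow 2 K, ((Q : Subgroup K) : Set K).toFinset =
      Finset.univ.filter (fun x : K => ¬ orderOf x = 3) := by
    intro Q
    have hQc : Nat.card (Q : Subgroup K) = 4 := by
      simpa using card_sylow_eq_of_card_eq 2 2 3 (by rw [h]; norm_num) (by norm_num) Q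
    apply Finset.eq_of_subset_of_card_le
    · intro x hx
      rw [Set.mem_toFinset] at hx
      rw [Finset.mem_filter]
      refine ⟨Finset.mem_univ _, ?_⟩
      intro hx3
      have hd := Subgroup.orderOf_dvd_natCard _ (SetLike.mem_coe.mp hx)
      rw [hx3, hQc] at hd
      omega
    · rw [hB, Set.toFinset_card]
      have : Fintype.card ↥((Q : Subgroup K) : Set K) = 4 := by
        rw [← Nat.card_eq_fintype_card]; exact hQc
      omega
  haveI : Subsingleton (Sylow 2 K) := ⟨fun Q1 Q2 => by
    apply Sylow.ext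
    apply SetLike.coe_injective
    exact Set.toFinset_inj.mp ((hQ Q1).trans (hQ Q2).symm)⟩
  obtain ⟨Q⟩ := (Sylow.nonempty : Nonempty (Sylow 2 K))
  haveI : Unique (Sylow 2 K) := ⟨⟨Q⟩, fun _ => Subsingleton.elim _ _⟩
  exact Nat.card_unique

/-- A unique Sylow subgroup of a normal subgroup is normal in the whole group. -/
theorem exists_normal_of_sylow (p : ℕ) [Fact p.Prime] (N : Subgroup G) [N.Normal]
    (T : Sylow p ↥N) (h : Nat.card (Sylow p ↥N) = 1) :
    ∃ N' : Subgroup G, N'.Normal ∧ Nat.card N' = Nat.card (T : Subgroup ↥N) := by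
  haveI := sylow_normal_of_card_eq_one p h T
  haveI : (T : Subgroup ↥N).Characteristic := Sylow.characteristic_of_normal T inferInstance
  refine ⟨(T : Subgroup ↥N).map N.subtype, inferInstance, ?_⟩
  exact Subgroup.card_map_of_injective N.subtype_injective

/-- A group of order properly dividing 60 has a normal Sylow 5-subgroup. -/
theorem card_sylow_five_of_dvd_sixty {K : Type*} [Group K] [Finite K] (h : Nat.card K ∣ 60)
    (h' : Nat.card K ≠ 60) : Nat.card (Sylow 5 K) = 1 := by
  haveI : Fact (Nat.Prime 5) := ⟨by norm_num⟩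
  by_cases h5 : 5 ∣ Nat.card K
  · obtain ⟨m, hm⟩ := h5
    have hm' : m ∣ 12 := by
      have : 5 * m ∣ 5 * 12 := by rw [← hm]; exact h
      exact Nat.dvd_of_mul_dvd_mul_left (by norm_num) this
    have hm12 : m ≠ 12 := by omega
    have hmle : m ≤ 12 := Nat.le_of_dvd (by norm_num) hm'
    have hcases : m = 1 ∨ m = 2 ∨ m = 3 ∨ m = 4 ∨ m = 6 := by
      interval_cases m <;> simp_all
    rcases hcases with rfl | rfl | rfl | rfl | rfl
    · have h' := card_sylow_mem_cands (G := K) 5 1 1 (by rw [hm]; norm_num) (by norm_num)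
      have e : sylowCands 5 1 = [1] := by decide
      rw [e] at h'
      simpa using h'
    · have h' := card_sylow_mem_cands (G := K) 5 1 2 (by rw [hm]; norm_num) (by norm_num)
      have e : sylowCands 5 2 = [1] := by decide
      rw [e] at h'
      simpa using h'
    · have h' := card_sylow_mem_cands (G := K) 5 1 3 (by rw [hm]; norm_num) (by norm_num)
      have e : sylowCands 5 3 = [1] := by decide
      rw [e] at h'
      simpa using h'
    · have h' := card_sylow_mem_cands (G := K) 5 1 4 (by rw [hm]; norm_num) (by norm_num)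
      have e : sylowCands 5 4 = [1] := by decide
      rw [e] at h'
      simpa using h'
    · exact card_sylow_five_of_card_thirty (by rw [hm])
  · exact card_sylow_eq_one_of_not_dvd 5 h5

/-- A group of order 60 that is not simple has a normal Sylow 5-subgroup. -/
theorem sylow_five_normal_of_not_simple (h : Nat.card G = 60) (hns : ¬ IsSimpleGroup G)
    (P : Sylow 5 G) : (P : Subgroup G).Normal := by
  haveI : Fact (Nat.Prime 5) := ⟨by norm_num⟩
  haveI : Nontrivial G := Finite.one_lt_card_iff_nontrivial.mp (by rw [h]; norm_num)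
  obtain ⟨N, hN, hNbot, hNtop⟩ : ∃ N : Subgroup G, N.Normal ∧ N ≠ ⊥ ∧ N ≠ ⊤ := by
    by_contra hcon
    apply hns
    refine ⟨fun N hN => ?_⟩
    by_contra h'
    push Not at h'
    exact hcon ⟨N, hN, h'.1, h'.2⟩
  obtain ⟨N, hN, hN1, hN60, hN12⟩ : ∃ N : Subgroup G, N.Normal ∧ Nat.card N ≠ 1 ∧
      Nat.card N ≠ 60 ∧ Nat.card N ≠ 12 := by
    by_cases h12 : Nat.card N = 12
    · haveI := hN
      haveI : Fact (Nat.Prime 2) := ⟨Nat.prime_two⟩
      haveI : Fact (Nat.Prime 3) := ⟨by norm_num⟩
      by_cases h3 : Nat.card (Sylow 3 ↥N) = 1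
      · obtain ⟨T⟩ := (Sylow.nonempty : Nonempty (Sylow 3 ↥N))
        have hT : Nat.card (T : Subgroup ↥N) = 3 := by
          simpa using card_sylow_eq_of_card_eq 3 1 4 (by rw [h12]; norm_num) (by norm_num) T
        obtain ⟨N', hN', hc⟩ := exists_normal_of_sylow 3 N T h3
        rw [hT] at hc
        exact ⟨N', hN', by omega, by omega, by omega⟩
      · have h2 := card_sylow_two_of_card_twelve h12 h3
        obtain ⟨T⟩ := (Sylow.nonempty : Nonempty (Sylow 2 ↥N))
        have hT : Nat.card (T : Subgroup ↥N) = 4 := by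
          simpa using card_sylow_eq_of_card_eq 2 2 3 (by rw [h12]; norm_num) (by norm_num) T
        obtain ⟨N', hN', hc⟩ := exists_normal_of_sylow 2 N T h2
        rw [hT] at hc
        exact ⟨N', hN', by omega, by omega, by omega⟩
    · refine ⟨N, hN, fun h1 => hNbot (Subgroup.card_eq_one.mp h1), fun h60 => hNtop ?_, h12⟩
      exact (Subgroup.card_eq_iff_eq_top N).mp (h60.trans h.symm)
  haveI := hN
  have hq := card_quotient_mul N
  rw [h] at hq
  have h1 : Nat.card (Sylow 5 (G ⧸ N)) = 1 := by
    apply card_sylow_five_of_dvd_sixty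
    · exact ⟨Nat.card N, hq.symm⟩
    · intro h60
      rw [h60] at hq
      omega
  have hP : Nat.card (P : Subgroup G) = 5 := by
    simpa using card_sylow_eq_of_card_eq 5 1 12 (by rw [h]; norm_num) (by norm_num) P
  have h2 : Nat.card (Sylow 5 ↥((P : Subgroup G) ⊔ N)) = 1 := by
    apply card_sylow_five_of_dvd_sixty
    · have hd := Subgroup.card_subgroup_dvd_card ((P : Subgroup G) ⊔ N)
      rwa [h] at hd
    · intro h60
      have hf := card_sup_mul_card_inf (P : Subgroup G) N
      rw [h60, hP] at hf
      have hi : Nat.card ↥((P : Subgroup G) ⊓ N) ∣ 5 := by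
        have hd := Subgroup.card_dvd_of_le (inf_le_left : (P : Subgroup G) ⊓ N ≤ (P : Subgroup G))
        rwa [hP] at hd
      rcases (Nat.dvd_prime (by norm_num)).mp hi with hi' | hi'
      · rw [hi'] at hf; omega
      · rw [hi'] at hf; omega
  exact sylow_normal_of_quotient 5 N P h1 h2

end Cfsg.Agent.Lib.Helper64.Order60
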